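import Cfsg.Agent.Lib.AutPSL.Main
import Cfsg.Agent.Lib.AutPSLOrder.Main
import Cfsg.Agent.Lib.Chev.AutOutCounts

/-!
# `|Aut PSL(2,8)| ≤ 3 |PSL(2,8)|`
-/

set_option autoImplicit false
set_option linter.style.haveILetI false

namespace Cfsg.Agent.TwoTimesAlt

open AutPSL AutPSLOrder

variable {F : Type*} [Field F] [Fintype F]

theorem card_mulAut_le (hF : Fintype.card F = 8) :
    Finite (MulAut (Matrix.ProjectiveSpecialLinearGroup (Fin 2) F)) ∧
    Nat.card (MulAut (Matrix.ProjectiveSpecialLinearGroup (Fin 2) F)) ≤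
      3 * Nat.card (Matrix.ProjectiveSpecialLinearGroup (Fin 2) F) := by
  classical
  let P := Matrix.ProjectiveSpecialLinearGroup (Fin (1 + 1)) F
  haveI : Fact (Nat.Prime 2) := ⟨Nat.prime_two⟩
  have hσ : Nat.card (F ≃+* F) = 3 :=
    Chev.BNSetup.card_fieldAuts (p := 2) (f := 3) (by norm_num) (by rw [hF]; norm_num)
  have h2 : (2 : F) = 0 := by
    have h0 : ((Fintype.card F : ℕ) : F) = 0 := FiniteField.cast_card_eq_zero F
    rw [hF, show (8 : ℕ) = 2 ^ 3 by norm_num, Nat.cast_pow] at h0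
    exact eq_zero_of_pow_eq_zero (by exact_mod_cast h0)
  have hchar : ringChar F = 2 := by
    haveI : CharP F 2 := CharTwo.of_one_ne_zero_of_two_eq_zero one_ne_zero h2
    exact ringChar.eq F 2
  have hconj : ∀ g : GL (Fin (1 + 1)) F, ∃ s : P,
      (conjP g : MulAut P) = MulAut.conj s := by
    intro g
    obtain ⟨r, hr⟩ := FiniteField.isSquare_of_char_two (F := F) hchar
      (Matrix.GeneralLinearGroup.det g : F)
    have hdet : (Matrix.GeneralLinearGroup.det g : F) ≠ 0 := Units.ne_zero _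
    have hr0 : r ≠ 0 := fun h => hdet (by rw [hr, h, zero_mul])
    let c : Fˣ := Units.mk0 r hr0
    set h := g * (Matrix.GeneralLinearGroup.scalar (Fin (1+1)) c)⁻¹ with hh
    have hd : (h : Matrix (Fin (1+1)) (Fin (1+1)) F).det = 1 := by
      have e : Matrix.GeneralLinearGroup.det h = 1 := by
        refine Units.ext ?_
        rw [hh, map_mul, map_inv]
        simp [Matrix.GeneralLinearGroup.scalar, c, hr, sq]
        field_simp
      exact congrArg Units.val e
    refine ⟨QuotientGroup.mk' _ ⟨_, hd⟩, ?_⟩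
    have e1 : (Matrix.SpecialLinearGroup.toGL ⟨_, hd⟩ : GL (Fin (1+1)) F) = h := Units.ext rfl
    have e2 : (conjP g : MulAut P) = conjP h := by
      rw [hh, map_mul, map_inv, conjP_scalar, inv_one, mul_one]
    have e3 : (conjP (Matrix.SpecialLinearGroup.toGL ⟨_, hd⟩) : MulAut P) = conjP h := congrArg conjP e1
    rw [e2, ← e3]
    exact conjP_toGL _
  let f : P × (F ≃+* F) → MulAut P := fun x => MulAut.conj x.1 * fieldP x.2
  have hsurj : Function.Surjective f := by
    intro φ
    obtain ⟨g, σ, γ, hγ, rfl⟩ := exists_decomposition (m := 1) le_rfl φ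
    obtain ⟨J, hJ⟩ := invP_eq_conjP (F := F)
    obtain ⟨g', hg'⟩ : ∃ g', (conjP g * fieldP σ * γ : MulAut P) = conjP g' * fieldP σ := by
      rcases hγ with rfl | rfl
      · exact ⟨g, mul_one _⟩
      · rw [hJ, mul_assoc, fieldP_mul_conjP, ← mul_assoc, ← map_mul]
        exact ⟨_, rfl⟩
    obtain ⟨s, hs⟩ := hconj g'
    exact ⟨(s, σ), by rw [hg', hs]⟩
  haveI : Finite (F ≃+* F) := Nat.finite_of_card_ne_zero (by omega)
  haveI : Finite P := Finite.of_surjective _ (QuotientGroup.mk'_surjective _)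
  refine ⟨Finite.of_surjective f hsurj, ?_⟩
  have := Nat.card_le_card_of_surjective f hsurj
  rw [Nat.card_prod, hσ, mul_comm] at this
  exact this

end Cfsg.Agent.TwoTimesAlt
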