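import Cfsg.Agent.Lib.TwoTimesAlt.Simple
import Cfsg.Agent.Lib.TwoTimesAlt.AutEight
import Cfsg.Agent.Lib.EightSylow.Main
import Cfsg.Agent.S1230
import Mathlib.GroupTheory.SpecificGroups.ZGroup

/-!
# `C(J) ≅ 2 × A₄`: the group is `Aut PSL(2,8)`; `C(J) ≅ 2 × A₅`: the group is simple
-/

set_option autoImplicit false
set_option linter.style.haveILetI false
set_option linter.unusedSectionVars false
set_option synthInstance.maxSize 4096

namespace Cfsg.Agent.TwoTimesAlt

open Subgroup

universe u
variable {G : Type u} [Group G] [Finite G] {J : G} {T : Subgroup G} {P : Sylow 2 G} {a b : G}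

theorem alt4_involutions_commute :
    ∀ x y : alternatingGroup (Fin 4), x * x = 1 → y * y = 1 → x * y = y * x := by
  decide +kernel

theorem Data.exists_conj_N (D : Data J T P a b) (hc : ¬ IsMulCommutative ↥(normalClosure ({J} : Set G))) (g : G) :
    ∃ n ∈ normalClosure ({J} : Set G), n * g ∈ centralizer ({J} : Set G) := by
  obtain ⟨-, hconj⟩ := D.simple_N hc
  obtain ⟨n, hn⟩ := isConj_iff.1 (hconj ⟨g * J * g⁻¹, normalClosure_normal.conj_mem _ D.J_mem_N g⟩
    ⟨J, D.J_mem_N⟩ (by rw [orderOf_mk, ← MulAut.conj_apply, MulEquiv.orderOf_eq]; exact D.two.1)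
    (by rw [orderOf_mk]; exact D.two.1))
  refine ⟨n, n.2, mem_centralizer_singleton_iff.2 ?_⟩
  have e : (n : G) * (g * J * g⁻¹) * (n : G)⁻¹ = J := congrArg Subtype.val hn
  calc (n : G) * g * J = (n : G) * (g * J * g⁻¹) * (n : G)⁻¹ * (n * g) := by group
    _ = J * (n * g) := by rw [e]

theorem Data.five (D : Data J T P a b) [IsSimpleGroup T] (hT : Nat.card T = 60) :
    IsSimpleGroup G := by
  have hTn : ∀ v ∈ T, ∀ K : Subgroup G, K.Normal → v ∈ K → v ≠ 1 → T ≤ K := by
    intro v hv K hK hvK hv1
    haveI := hK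
    refine subgroupOf_eq_top.1 ((IsSimpleGroup.eq_bot_or_eq_top_of_normal (K.subgroupOf T) inferInstance).resolve_left
      fun hb => hv1 ?_)
    have : (⟨v, hv⟩ : T) ∈ K.subgroupOf T := hvK
    rw [hb, mem_bot] at this
    exact congrArg Subtype.val this
  have hc : ¬ IsMulCommutative ↥(normalClosure ({J} : Set G)) := fun hc => by
    have h1 := card_dvd_of_le (hTn a D.a_mem.2 _ (D.P_normal_of_N_comm hc) D.a_mem.1 D.a_ne)
    rw [hT, D.card_P] at h1
    omega
  haveI := normalClosure_normal (s := ({J} : Set G))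
  have hTN := hTn a D.a_mem.2 _ inferInstance (D.P_le_N D.a_mem.1) D.a_ne
  have htop : normalClosure ({J} : Set G) = ⊤ := by
    refine top_le_iff.1 fun g _ => ?_
    obtain ⟨n, hn, hng⟩ := D.exists_conj_N hc g
    have hmem : n * g ∈ normalClosure ({J} : Set G) := by
      rcases D.decomp hng with h | h
      · exact hTN h
      · have := mul_mem D.J_mem_N (hTN h)
        rwa [← mul_assoc, D.sq, one_mul] at this
    exact (mul_mem_cancel_left hn).1 hmem
  haveI : Nontrivial G := ⟨⟨J, 1, D.ne_one⟩⟩
  refine ⟨fun K hK => ?_⟩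
  by_cases hb : K = ⊥
  · exact Or.inl hb
  · haveI := hK
    exact Or.inr (top_le_iff.1 (htop ▸ D.N_le K hb))

theorem Data.four_case (D : Data J T P a b) (e4 : T ≃* alternatingGroup (Fin 4)) (hns : ¬ Group.IsSolvable G) :
    ∃ (F : Type) (_ : Field F) (_ : Fintype F), Fintype.card F = 8 ∧
      Nonempty (G ≃* MulAut (Matrix.ProjectiveSpecialLinearGroup (Fin 2) F)) := by
  haveI : Fact (Nat.Prime 2) := ⟨Nat.prime_two⟩
  haveI : Fact (Nat.Prime 3) := ⟨Nat.prime_three⟩
  have hT : Nat.card T = 12 := by
    rw [Nat.card_congr e4.toEquiv, Nat.card_eq_fintype_card]; rfl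
  have hC : Nat.card (centralizer ({J} : Set G)) = 24 := by rw [D.card_C, hT]
  -- `P` is normal in the centraliser
  have hCN : centralizer ({J} : Set G) ≤ normalizer ((P : Subgroup G) : Set G) := by
    have key : ∀ c ∈ centralizer ({J} : Set G), ∀ x ∈ (P : Subgroup G), c * x * c⁻¹ ∈ (P : Subgroup G) := by
      have hinv : ∀ w ∈ T, w * w = 1 → w ∈ (P : Subgroup G) := by
        intro w hw hw2
        have hcm : ∀ x ∈ (P : Subgroup G) ⊓ T, w * x = x * w := fun x hx => by
          have := alt4_involutions_commute (e4 ⟨w, hw⟩) (e4 ⟨x, hx.2⟩)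
            (by rw [← map_mul, ← map_one e4]; exact congrArg e4 (Subtype.ext hw2))
            (by rw [← map_mul, ← map_one e4]; exact congrArg e4 (Subtype.ext (D.sq_P hx.1)))
          rw [← map_mul, ← map_mul] at this
          exact congrArg Subtype.val (e4.injective this)
        rcases D.four hw (hcm a D.a_mem) (hcm b D.b_mem) with h | h | h | h <;> rw [h]
        exacts [one_mem _, D.a_mem.1, D.b_mem.1, mul_mem D.a_mem.1 D.b_mem.1]
      intro c hc x hx
      have hcJ : c * J = J * c := mem_centralizer_singleton_iff.1 hc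
      have hy : c * x * c⁻¹ ∈ centralizer ({J} : Set G) := mul_mem (mul_mem hc (D.P_le hx)) (inv_mem hc)
      have hy2 : c * x * c⁻¹ * (c * x * c⁻¹) = 1 := by rw [conj_mul, D.sq_P hx, mul_one, mul_inv_cancel]
      rcases D.decomp hy with h | h
      · exact hinv _ h hy2
      · have hcm : J * (c * x * c⁻¹) = c * x * c⁻¹ * J := (mem_centralizer_singleton_iff.1 hy).symm
        have := mul_mem D.J_mem (hinv _ h (by
          rw [mul_assoc, ← mul_assoc (c * x * c⁻¹), ← hcm, mul_assoc J (c * x * c⁻¹), hy2, mul_one, D.sq]))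
        rwa [← mul_assoc, D.sq, one_mul] at this
    intro c hc
    rw [mem_normalizer_iff]
    refine fun x => ⟨key c hc x, fun hx => ?_⟩
    have := key c⁻¹ (inv_mem hc) _ hx
    simpa [mul_assoc] using this
  haveI := D.elem.1
  have hc : ¬ IsMulCommutative ↥(normalClosure ({J} : Set G)) := by
    intro hcm
    refine hns ?_
    haveI := D.P_normal_of_N_comm hcm
    have horb : MulAction.orbit (ConjAct G) J = {x | x ∈ (P : Subgroup G) ∧ x ≠ 1} := by
      ext x
      rw [ConjAct.mem_orbit_conjAct]
      refine ⟨fun hx => ?_, fun hx => (D.fused hx.1 hx.2).symm⟩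
      obtain ⟨c, rfl⟩ := isConj_iff.1 hx.symm
      exact ⟨(inferInstance : (P : Subgroup G).Normal).conj_mem _ D.J_mem c,
        fun e => D.ne_one (conj_eq_one_iff.1 e)⟩
    have h7 : (MulAction.orbit (ConjAct G) J).ncard = 7 := by
      rw [horb, show {x : G | x ∈ (P : Subgroup G) ∧ x ≠ 1} = ((P : Subgroup G) : Set G) \ {1} from rfl,
        Set.ncard_sdiff_singleton_of_mem (one_mem (P : Subgroup G)), ← Nat.card_coe_set_eq]
      have := D.card_P
      simp only [SetLike.coe_sort_coe] at this ⊢
      omega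
    have hG : Nat.card G = 168 := by
      rw [← MulAction.index_stabilizer, ConjAct.stabilizer_eq_centralizer] at h7
      have h := card_mul_index (centralizer ({ConjAct.toConjAct J} : Set (ConjAct G)))
      rw [h7] at h
      have : Nat.card (centralizer ({ConjAct.toConjAct J} : Set (ConjAct G))) = 24 := hC
      rw [this] at h
      exact h.symm
    have h21 : Nat.card (G ⧸ (P : Subgroup G)) = 21 := by
      have := card_eq_card_quotient_mul_card_subgroup (P : Subgroup G)
      rw [hG, D.card_P] at this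
      omega
    haveI : IsZGroup (G ⧸ (P : Subgroup G)) := IsZGroup.of_squarefree (by
      rw [h21, show (21 : ℕ) = 3 * 7 by norm_num]
      exact (Nat.squarefree_mul (by norm_num)).2 ⟨(Nat.prime_iff.1 Nat.prime_three).squarefree,
        (Nat.prime_iff.1 (by norm_num : Nat.Prime 7)).squarefree⟩)
    haveI : Group.IsSolvable (P : Subgroup G) :=
      Group.isSolvable_of_comm fun x y => Subtype.ext (D.comm_P x.2 y.2)
    exact Group.isSolvable_of_ker_le_range (P : Subgroup G).subtype (QuotientGroup.mk' (P : Subgroup G))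
      (by rw [QuotientGroup.ker_mk', range_subtype])
  obtain ⟨hsimple, hconj⟩ := D.simple_N hc
  haveI := hsimple
  set N := normalClosure ({J} : Set G) with hN
  haveI : N.Normal := normalClosure_normal
  set S : Sylow 2 ↥N := P.subtype D.P_le_N
  have hS : Cfsg.IsElementaryAbelian 2 (S : Subgroup ↥N) :=
    ⟨⟨⟨fun x y => Subtype.ext (Subtype.ext (D.comm_P x.2 y.2))⟩⟩,
      fun x hx => Subtype.ext (by simpa [pow_two] using D.sq_P hx)⟩
  have hS8 : Nat.card (S : Subgroup ↥N) = 8 :=
    (Nat.card_congr (subgroupOfEquivOfLe D.P_le_N).toEquiv).trans D.card_P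
  have hcentS : centralizer ((S : Subgroup ↥N) : Set ↥N) = (S : Subgroup ↥N) := by
    haveI := hS.1
    refine le_antisymm (fun v hv => ?_) (le_centralizer (S : Subgroup ↥N))
    show (v : G) ∈ (P : Subgroup G)
    refine D.centralizer_P (mem_centralizer_iff.2 fun x hx => ?_)
    exact congrArg Subtype.val (mem_centralizer_iff.1 hv ⟨x, D.P_le_N hx⟩ hx)
  haveI hsolvC : Group.IsSolvable ↥(centralizer ({J} : Set G)) := by
    set Q := (P : Subgroup G).subgroupOf (centralizer ({J} : Set G))
    haveI : Q.Normal := (normal_subgroupOf_iff_le_normalizer D.P_le).2 hCN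
    have hQ : Nat.card Q = 8 := (Nat.card_congr (subgroupOfEquivOfLe D.P_le).toEquiv).trans D.card_P
    haveI : IsPGroup 2 Q := IsPGroup.of_card (n := 3) (by rw [hQ]; norm_num)
    haveI : Group.IsSolvable Q :=
      Group.isSolvable_of_comm fun x y => Subtype.ext (Subtype.ext (D.comm_P x.2 y.2))
    have h3 : Nat.card (_ ⧸ Q) = 3 := by
      have := card_eq_card_quotient_mul_card_subgroup Q
      rw [hC, hQ] at this
      omega
    haveI := isCyclic_of_prime_card h3
    exact Group.isSolvable_of_ker_le_range Q.subtype (QuotientGroup.mk' Q)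
      (by rw [QuotientGroup.ker_mk', range_subtype])
  have hcentJ : centralizer ({J} : Set G) ⊓ N = (P : Subgroup G) := by
    have hle : (P : Subgroup G) ≤ centralizer ({J} : Set G) ⊓ N := le_inf D.P_le D.P_le_N
    by_contra hne
    -- otherwise the centraliser lies in `N`, whose automizer of `S` then has order divisible by three
    have hCle : centralizer ({J} : Set G) ≤ N := by
      have h1 := card_dvd_of_le hle
      have h2 := card_dvd_of_le (inf_le_left : centralizer ({J} : Set G) ⊓ N ≤ centralizer ({J} : Set G))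
      have h3 : Nat.card (P : Subgroup G) < Nat.card ↥(centralizer ({J} : Set G) ⊓ N) := by
        refine lt_of_le_of_ne (Nat.le_of_dvd Nat.card_pos h1) fun e => hne ?_
        exact (eq_of_le_of_card_ge hle e.ge).symm
      rw [D.card_P] at h1 h3
      rw [hC] at h2
      have h24 : Nat.card ↥(centralizer ({J} : Set G) ⊓ N) = 24 := by
        obtain ⟨k, hk⟩ := h1
        have := Nat.le_of_dvd (by norm_num) h2
        have hk3 : k ≤ 3 := by omega
        rw [hk] at h2 ⊢
        interval_cases k <;> omega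
      exact inf_eq_left.1 (eq_of_le_of_card_ge inf_le_left (by rw [h24, hC]))
    have hsol : ∀ t : ↥N, orderOf t = 2 → Group.IsSolvable ↥(centralizer ({t} : Set ↥N)) := by
      intro t ht
      obtain ⟨c, hc'⟩ := isConj_iff.1 (hconj t ⟨J, D.J_mem_N⟩ ht (by rw [orderOf_mk]; exact D.two.1))
      have hcG : (c : G) * t * (c : G)⁻¹ = J := congrArg Subtype.val hc'
      have hm : ∀ x : ↥(centralizer ({t} : Set ↥N)),
          (MulAut.conj (c : G)) ((x : ↥N) : G) ∈ centralizer ({J} : Set G) := fun x => by
        have hx : ((x : ↥N) : G) * t = t * (x : ↥N) :=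
          congrArg Subtype.val (mem_centralizer_singleton_iff.1 x.2)
        rw [mem_centralizer_singleton_iff, MulAut.conj_apply, ← hcG, conj_mul, conj_mul, hx]
      let f : ↥(centralizer ({t} : Set ↥N)) →* ↥(centralizer ({J} : Set G)) :=
        ((MulAut.conj (c : G)).toMonoidHom.comp (N.subtype.comp (centralizer ({t} : Set ↥N)).subtype)).codRestrict _ hm
      exact Group.isSolvable_of_isSolvable_injective (f := f) fun x y e =>
        Subtype.ext (Subtype.ext ((MulAut.conj (c : G)).injective (congrArg Subtype.val e)))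
    have h7 := EightSylow.relIndex_eq_seven (fun h => hc h) S hS hS8 hsol
    rw [hcentS] at h7
    have hNS : Nat.card ↥(normalizer ((S : Subgroup ↥N) : Set ↥N)) = 56 := by
      have := card_mul_index ((S : Subgroup ↥N).subgroupOf (normalizer ((S : Subgroup ↥N) : Set ↥N)))
      rw [Nat.card_congr (subgroupOfEquivOfLe le_normalizer).toEquiv, hS8] at this
      rw [show ((S : Subgroup ↥N).subgroupOf (normalizer ((S : Subgroup ↥N) : Set ↥N))).index = 7 from h7] at this
      omega
    have hle' : (centralizer ({J} : Set G)).subgroupOf N ≤ normalizer ((S : Subgroup ↥N) : Set ↥N) := by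
      intro c hc'
      rw [mem_normalizer_iff]
      exact fun x => mem_normalizer_iff.1 (hCN hc') (x : G)
    have := card_dvd_of_le hle'
    rw [Nat.card_congr (subgroupOfEquivOfLe hCle).toEquiv, hC, hNS] at this
    omega
  -- all involution centralisers in `N` are elementary abelian
  have helem : ∀ t : ↥N, orderOf t = 2 → IsMulCommutative ↥(centralizer ({t} : Set ↥N)) ∧
      ∀ c ∈ centralizer ({t} : Set ↥N), c ^ 2 = 1 := by
    intro t ht
    obtain ⟨c, hc'⟩ := isConj_iff.1 (hconj t ⟨J, D.J_mem_N⟩ ht (by rw [orderOf_mk]; exact D.two.1))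
    have hcG : (c : G) * t * (c : G)⁻¹ = J := congrArg Subtype.val hc'
    have hm : ∀ x ∈ centralizer ({t} : Set ↥N), (c : G) * x * (c : G)⁻¹ ∈ (P : Subgroup G) := fun x hx => by
      have hx' : (x : G) * t = t * x := congrArg Subtype.val (mem_centralizer_singleton_iff.1 hx)
      rw [← hcentJ, mem_inf, mem_centralizer_singleton_iff]
      exact ⟨by rw [← hcG, conj_mul, conj_mul, hx'],
        (inferInstance : N.Normal).conj_mem _ x.2 c⟩
    refine ⟨⟨⟨fun x y => Subtype.ext (Subtype.ext ?_)⟩⟩, fun x hx => Subtype.ext ?_⟩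
    · have := D.comm_P (hm _ x.2) (hm _ y.2)
      rw [conj_mul, conj_mul] at this
      exact mul_left_cancel (mul_right_cancel this)
    · have := D.sq_P (hm x hx)
      rw [conj_mul, conj_eq_one_iff] at this
      simpa [pow_two] using this
  have hnc : ¬ IsCyclic (S : Subgroup ↥N) := by
    intro hcy
    obtain ⟨g, hg⟩ := hcy.exists_generator
    have h2 : orderOf g ∣ 2 := orderOf_dvd_of_pow_eq_one (Subtype.ext (hS.2 g g.2))
    rw [orderOf_eq_card_of_forall_mem_zpowers hg, hS8] at h2
    omega
  have hnn : ¬ (S : Subgroup ↥N).Normal := by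
    intro hn
    rcases IsSimpleGroup.eq_bot_or_eq_top_of_normal _ hn with h | h
    · rw [h, card_bot] at hS8; omega
    · exact hc ⟨⟨fun x y => congrArg Subtype.val
        (hS.1.is_comm.comm ⟨x, h ▸ mem_top x⟩ ⟨y, h ▸ mem_top y⟩)⟩⟩
  obtain ⟨F, iF, iFt, hF, ⟨e⟩⟩ := S1230.result S hnc hnn helem
  rw [hS8] at hF
  obtain ⟨hfin, hle⟩ := card_mulAut_le (F := F) hF
  haveI := hfin
  -- `G` embeds in the automorphism group
  let φ : G →* MulAut ↥N := MulAut.conjNormal
  have hinj : Function.Injective φ := by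
    rw [injective_iff_map_eq_one]
    intro g hg
    by_contra hg1
    have hker : φ.ker ≠ ⊥ := fun h => hg1 (by
      rw [← mem_bot (G := G), ← h]; exact hg)
    refine hc ⟨⟨fun x y => ?_⟩⟩
    have hx := DFunLike.congr_fun (MonoidHom.mem_ker.1 (D.N_le φ.ker hker x.2)) y
    have hx' : (x : G) * y * (x : G)⁻¹ = y := congrArg Subtype.val hx
    exact Subtype.ext (mul_inv_eq_iff_eq_mul.1 hx')
  -- `|G : N| = 3`
  have hindex : N.index = 3 := by
    let q : ↥(centralizer ({J} : Set G)) →* G ⧸ N := (QuotientGroup.mk' N).comp (centralizer _).subtype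
    have hsurj : Function.Surjective q := by
      intro x
      obtain ⟨g, rfl⟩ := QuotientGroup.mk'_surjective N x
      obtain ⟨n, hn, hng⟩ := D.exists_conj_N hc g
      refine ⟨⟨n * g, hng⟩, ?_⟩
      show QuotientGroup.mk' N (n * g) = _
      rw [map_mul, (QuotientGroup.eq_one_iff n).2 hn |> (fun h => (show QuotientGroup.mk' N n = 1 from h)), one_mul]
    have hk : q.ker = (P : Subgroup G).subgroupOf (centralizer ({J} : Set G)) := by
      ext x
      rw [MonoidHom.mem_ker, mem_subgroupOf, ← hcentJ, mem_inf]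
      show (QuotientGroup.mk (x : G) : G ⧸ N) = 1 ↔ _
      rw [QuotientGroup.eq_one_iff]
      exact ⟨fun h => ⟨x.2, h⟩, fun h => h.2⟩
    have h1 := q.ker.card_mul_index
    rw [index_ker, MonoidHom.range_eq_top.2 hsurj, card_top, hk,
      Nat.card_congr (subgroupOfEquivOfLe D.P_le).toEquiv, D.card_P, hC] at h1
    rw [index_eq_card]
    omega
  have hcardG : Nat.card G = 3 * Nat.card (Matrix.ProjectiveSpecialLinearGroup (Fin 2) F) := by
    rw [← Nat.card_congr e.toEquiv, ← N.card_mul_index, hindex, mul_comm]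
  let ψ : G →* MulAut (Matrix.ProjectiveSpecialLinearGroup (Fin 2) F) := (MulAut.congr e).toMonoidHom.comp φ
  have hψ : Function.Injective ψ := (MulAut.congr e).injective.comp hinj
  exact ⟨F, iF, iFt, hF, ⟨MulEquiv.ofBijective ψ (hψ.bijective_of_nat_card_le (by omega))⟩⟩

/-- For `C(J) ≅ 2 × A₅` the centraliser is isomorphic to the model of the J₁ statements. -/
theorem Hyp.exists_equiv (h : Hyp J T) (e5 : T ≃* alternatingGroup (Fin 5)) :
    Nonempty (↥(centralizer ({J} : Set G)) ≃* Multiplicative (ZMod 2) × alternatingGroup (Fin 5)) := by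
  haveI : Fact (Nat.Prime 2) := ⟨Nat.prime_two⟩
  have hJ2 : Nat.card (zpowers J) = Nat.card (Multiplicative (ZMod 2)) := by
    rw [Nat.card_zpowers, h.two.1]; simp
  haveI := isCyclic_of_prime_card (α := Multiplicative (ZMod 2)) (p := 2) (by simp)
  let e2 : ↥(zpowers J) ≃* Multiplicative (ZMod 2) := mulEquivOfCyclicCardEq hJ2
  let f : ↥(zpowers J) × ↥T →* G := MonoidHom.noncommCoprod (zpowers J).subtype T.subtype
    fun x y => h.dp.2.2.1 x x.2 y y.2
  have hf : Function.Injective f := (MonoidHom.noncommCoprod_injective _ _ _).2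
    ⟨subtype_injective _, subtype_injective _, by
      rw [range_subtype, range_subtype, disjoint_iff]; exact h.dp.2.2.2.1⟩
  have hr : f.range = centralizer ({J} : Set G) := by
    refine (MonoidHom.noncommCoprod_range _ _ _).trans ?_
    rw [range_subtype, range_subtype]
    exact h.dp.2.2.2.2
  exact ⟨(((MonoidHom.ofInjective hf).trans (MulEquiv.subgroupCongr hr)).symm).trans (MulEquiv.prodCongr e2 e5)⟩

/-- The recognition, relative to the order of a simple group with such a centraliser. -/
theorem main (hns : ¬ Group.IsSolvable G) (h : Hyp J T) {m : ℕ} (e : T ≃* alternatingGroup (Fin m))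
    (P5 : Prop) (h5 : ∀ [IsSimpleGroup G], (↥(centralizer ({J} : Set G)) ≃* Multiplicative (ZMod 2) × alternatingGroup (Fin 5)) → P5) :
    (m = 4 ∧ ∃ (F : Type) (_ : Field F) (_ : Fintype F), Fintype.card F = 8 ∧
        Nonempty (G ≃* MulAut (Matrix.ProjectiveSpecialLinearGroup (Fin 2) F))) ∨ (m = 5 ∧ P5) := by
  obtain ⟨h4, h5'⟩ := h.six_le e
  obtain rfl | rfl : m = 4 ∨ m = 5 := by omega
  · obtain ⟨P, a, b, D⟩ := h.exists_data (small_four.congr e.symm)
      (Or.inl (by rw [Nat.card_congr e.toEquiv, Nat.card_eq_fintype_card]; rfl))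
    exact Or.inl ⟨rfl, D.four_case e hns⟩
  · have h60 : Nat.card T = 60 := by rw [Nat.card_congr e.toEquiv, Nat.card_eq_fintype_card]; rfl
    obtain ⟨P, a, b, D⟩ := h.exists_data (small_five.congr e.symm) (Or.inr h60)
    haveI : IsSimpleGroup (alternatingGroup (Fin 5)) := alternatingGroup.isSimpleGroup (by simp)
    haveI : IsSimpleGroup T := e.isSimpleGroup
    haveI := D.five h60
    obtain ⟨ec⟩ := h.exists_equiv e
    exact Or.inr ⟨rfl, h5 ec⟩

end Cfsg.Agent.TwoTimesAlt
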