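import Mathlib

/-!
# Involutions of alternating groups as commutators inside their centralisers; small facts on `A₄`, `A₅`
-/

set_option autoImplicit false
set_option synthInstance.maxSize 4096
set_option synthInstance.maxHeartbeats 200000

namespace Cfsg.Agent.TwoTimesAlt

open Equiv
open scoped commutatorElement

variable {α : Type*} [DecidableEq α] [Fintype α]

theorem commute_swap {y : Perm α} {a b : α} (ha : y a = b) (hb : y b = a) : Commute (swap a b) y := by
  have h := Equiv.mul_swap_eq_swap_mul y a b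
  rw [ha, hb, swap_comm b a] at h
  exact h.symm

theorem commute_swap_swap {y : Perm α} {a b c d : α} (ha : y a = b) (hb : y b = a) (hc : y c = d)
    (hd : y d = c) (hab : a ≠ b) (had : a ≠ d) (hcb : c ≠ b) (hcd : c ≠ d) :
    Commute (swap a c * swap b d) y := by
  have hdisj : swap b d * swap a c = swap a c * swap b d := by
    rw [Equiv.mul_swap_eq_swap_mul, swap_apply_of_ne_of_ne hab had, swap_apply_of_ne_of_ne hcb hcd]
  have e : y * (swap a c * swap b d) = swap a c * swap b d * y := by
    rw [← mul_assoc, Equiv.mul_swap_eq_swap_mul y, ha, hc, mul_assoc (swap b d),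
      Equiv.mul_swap_eq_swap_mul y, hb, hd, ← mul_assoc, hdisj]
  exact e.symm

/-- The even permutations in the centraliser of `y`. -/
def IsEvenCent (y p : Perm α) : Prop := Perm.sign p = 1 ∧ Commute p y

/-- The subgroup generated by commutators of even permutations centralising `y`. -/
def commClosure (y : Perm α) : Subgroup (Perm α) :=
  Subgroup.closure {x | ∃ p q, IsEvenCent y p ∧ IsEvenCent y q ∧ x = ⁅p, q⁆}

theorem swap_swap_mem (hcard : 6 ≤ Fintype.card α) {y : Perm α} (hy : y * y = 1) {a b c d : α}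
    (ha : y a = b) (hc : y c = d) (hab : a ≠ b) (hca : c ≠ a) (hcb : c ≠ b) (hcd : c ≠ d) :
    swap a b * swap c d ∈ commClosure y := by
  have hyy : ∀ i, y (y i) = i := fun i => by rw [← Perm.mul_apply, hy, Perm.one_apply]
  have hb : y b = a := by rw [← ha, hyy]
  have hd : y d = c := by rw [← hc, hyy]
  have had : a ≠ d := fun h => hcb (by rw [← hd, ← h, ha])
  have hbd : b ≠ d := fun h => hca (by rw [← hd, ← h, hb])
  obtain ⟨e, f, hef, he, hf, hye, hyf⟩ : ∃ e f, e ≠ f ∧ e ∉ ({a, b, c, d} : Finset α) ∧
      f ∉ ({a, b, c, d} : Finset α) ∧ ((y e = f ∧ y f = e) ∨ (y e = e ∧ y f = f)) ∧ True := by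
    by_cases hmv : ∃ e, e ∉ ({a, b, c, d} : Finset α) ∧ y e ≠ e
    · obtain ⟨e, he, hne⟩ := hmv
      refine ⟨e, y e, fun h => hne h.symm, he, fun h => he ?_, Or.inl ⟨rfl, hyy e⟩, trivial⟩
      simp only [Finset.mem_insert, Finset.mem_singleton] at h ⊢
      have e1 := hyy e
      rcases h with h | h | h | h <;> rw [h] at e1
      · exact Or.inr (Or.inl (e1.symm.trans ha))
      · exact Or.inl (e1.symm.trans hb)
      · exact Or.inr (Or.inr (Or.inr (e1.symm.trans hc)))
      · exact Or.inr (Or.inr (Or.inl (e1.symm.trans hd)))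
    · simp only [not_exists, not_and, not_not] at hmv
      have h4 : ({a, b, c, d} : Finset α).card ≤ 4 := Finset.card_le_four
      have h2 : 1 < (Finset.univ \ ({a, b, c, d} : Finset α)).card := by
        rw [Finset.card_sdiff_of_subset (Finset.subset_univ _), Finset.card_univ]; omega
      obtain ⟨e, he, f, hf, hef⟩ := Finset.one_lt_card.1 h2
      rw [Finset.mem_sdiff] at he hf
      exact ⟨e, f, hef, he.2, hf.2, Or.inr ⟨hmv e he.2, hmv f hf.2⟩, trivial⟩
  simp only [Finset.mem_insert, Finset.mem_singleton, not_or] at he hf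
  have hpc : IsEvenCent y (swap a b * swap e f) := by
    refine ⟨by rw [map_mul, Perm.sign_swap hab, Perm.sign_swap hef]; rfl, (commute_swap ha hb).mul_left ?_⟩
    rcases hye with ⟨h1, h2⟩ | ⟨h1, h2⟩
    · exact commute_swap h1 h2
    · have h := Equiv.mul_swap_eq_swap_mul y e f
      rw [h1, h2] at h
      exact h.symm
  have hqc : IsEvenCent y (swap a c * swap b d) :=
    ⟨by rw [map_mul, Perm.sign_swap (Ne.symm hca), Perm.sign_swap hbd]; rfl,
      commute_swap_swap ha hb hc hd hab had hcb hcd⟩
  refine Subgroup.subset_closure ⟨_, _, hpc, hqc, ?_⟩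
  have hp : (swap a b * swap e f)⁻¹ = swap e f * swap a b := by
    rw [mul_inv_rev, swap_inv, swap_inv]
  have hcm : swap e f * swap a b = swap a b * swap e f := by
    rw [Equiv.mul_swap_eq_swap_mul, swap_apply_of_ne_of_ne (Ne.symm he.1) (Ne.symm hf.1),
      swap_apply_of_ne_of_ne (Ne.symm he.2.1) (Ne.symm hf.2.1)]
  rw [commutatorElement_def, hp, hcm]
  have hq : ∀ s t : α, swap a c * swap b d * swap s t =
      swap ((swap a c * swap b d) s) ((swap a c * swap b d) t) * (swap a c * swap b d) :=
    fun s t => Equiv.mul_swap_eq_swap_mul _ s t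
  have h1 : (swap a c * swap b d) a = c := by
    rw [Perm.mul_apply, swap_apply_of_ne_of_ne hab had, swap_apply_left]
  have h2 : (swap a c * swap b d) b = d := by
    rw [Perm.mul_apply, swap_apply_left, swap_apply_of_ne_of_ne (Ne.symm had) (Ne.symm hcd)]
  have h3 : (swap a c * swap b d) e = e := by
    rw [Perm.mul_apply, swap_apply_of_ne_of_ne he.2.1 he.2.2.2, swap_apply_of_ne_of_ne he.1 he.2.2.1]
  have h4 : (swap a c * swap b d) f = f := by
    rw [Perm.mul_apply, swap_apply_of_ne_of_ne hf.2.1 hf.2.2.2, swap_apply_of_ne_of_ne hf.1 hf.2.2.1]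
  have hconj : (swap a c * swap b d) * (swap a b * swap e f) * (swap a c * swap b d)⁻¹ =
      swap c d * swap e f := by
    rw [← mul_assoc, hq, h1, h2, mul_assoc (swap c d), hq, h3, h4]
    group
  have hce : swap e f * swap c d = swap c d * swap e f := by
    rw [Equiv.mul_swap_eq_swap_mul, swap_apply_of_ne_of_ne (Ne.symm he.2.2.1) (Ne.symm hf.2.2.1),
      swap_apply_of_ne_of_ne (Ne.symm he.2.2.2) (Ne.symm hf.2.2.2)]
  calc swap a b * swap c d
      = swap a b * swap e f * (swap c d * swap e f) := by
        rw [← hce, mul_assoc, ← mul_assoc (swap e f), swap_mul_self, one_mul]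
    _ = _ := by rw [← hconj]; group

/-- An even involution, on at least six points, lies in the derived group of its centraliser. -/
theorem mem_commClosure (hcard : 6 ≤ Fintype.card α) {y : Perm α} (hy : y * y = 1)
    (hs : Perm.sign y = 1) : y ∈ commClosure y := by
  suffices H : ∀ n (z : Perm α), z.support.card = n → Perm.sign z = 1 →
      (∀ i, z i = i ∨ z i = y i) → z ∈ commClosure y from H _ y rfl hs fun _ => Or.inr rfl
  have hyy : ∀ i, y (y i) = i := fun i => by rw [← Perm.mul_apply, hy, Perm.one_apply]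
  intro n
  induction n using Nat.strong_induction_on with
  | h n ih =>
  intro z hn hz hzy
  by_cases hz1 : z = 1
  · rw [hz1]; exact one_mem _
  obtain ⟨a, ha⟩ : ∃ a, z a ≠ a := by
    by_contra h; exact hz1 (Equiv.ext fun i => by simpa using not_not.1 (fun h' => h ⟨i, h'⟩))
  have key : ∀ i, z i ≠ i → z i = y i ∧ z (y i) = i := by
    intro i hi
    have h := (hzy i).resolve_left hi
    refine ⟨h, ?_⟩
    rcases hzy (y i) with h' | h'
    · exact absurd (h.trans (z.injective (by rw [h', h]))) hi
    · rw [h', hyy]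
  set b := y a
  obtain ⟨hab', hba⟩ := key a ha
  have hab : a ≠ b := fun h => ha (hab'.trans h.symm)
  obtain ⟨c, hc, hca, hcb⟩ : ∃ c, z c ≠ c ∧ c ≠ a ∧ c ≠ b := by
    by_contra h
    simp only [not_exists, not_and, not_not] at h
    have : z = swap a b := Equiv.ext fun i => by
      by_cases hia : i = a
      · rw [hia, swap_apply_left, hab']
      by_cases hib : i = b
      · rw [hib, swap_apply_right, hba]
      rw [swap_apply_of_ne_of_ne hia hib]
      by_contra hi
      exact hib (h i hi hia)
    rw [this, Perm.sign_swap hab] at hz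
    exact absurd hz (by decide)
  set d := y c
  obtain ⟨hcd', hdc⟩ := key c hc
  have hcd : c ≠ d := fun h => hc (hcd'.trans h.symm)
  have had : a ≠ d := fun h => hcb (by show c = y a; rw [h, hyy])
  have hbd : b ≠ d := fun h => hca ((y.injective h).symm)
  set w := swap a b * swap c d with hw
  have hwmem : w ∈ commClosure y := swap_swap_mem hcard hy rfl rfl hab hca hcb hcd
  have hwval : ∀ i, w i = if i = a ∨ i = b ∨ i = c ∨ i = d then z i else i := by
    intro i
    rw [hw, Perm.mul_apply]
    split_ifs with h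
    · rcases h with rfl | rfl | rfl | rfl
      · rw [swap_apply_of_ne_of_ne (Ne.symm hca) had, swap_apply_left, hab']
      · rw [swap_apply_of_ne_of_ne (Ne.symm hcb) hbd, swap_apply_right, hba]
      · rw [swap_apply_left, swap_apply_of_ne_of_ne (Ne.symm had) (Ne.symm hbd), hcd']
      · rw [swap_apply_right, swap_apply_of_ne_of_ne hca hcb, hdc]
    · simp only [not_or] at h
      rw [swap_apply_of_ne_of_ne h.2.2.1 h.2.2.2, swap_apply_of_ne_of_ne h.1 h.2.1]
  have hwin : ∀ i, (i = a ∨ i = b ∨ i = c ∨ i = d) → (z i = a ∨ z i = b ∨ z i = c ∨ z i = d) ∧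
      z (z i) = i := by
    rintro i (rfl | rfl | rfl | rfl)
    · exact ⟨Or.inr (Or.inl hab'), by rw [hab', hba]⟩
    · exact ⟨Or.inl hba, by rw [hba, hab']⟩
    · exact ⟨Or.inr (Or.inr (Or.inr hcd')), by rw [hcd', hdc]⟩
    · exact ⟨Or.inr (Or.inr (Or.inl hdc)), by rw [hdc, hcd']⟩
  set z' := w * z with hz'
  have hz'val : ∀ i, z' i = if i = a ∨ i = b ∨ i = c ∨ i = d then i else z i := by
    intro i
    rw [hz', Perm.mul_apply, hwval]
    by_cases h : i = a ∨ i = b ∨ i = c ∨ i = d
    · rw [if_pos h, if_pos (hwin i h).1, (hwin i h).2]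
    · rw [if_neg h, if_neg]
      intro h'
      obtain ⟨hin, hzz⟩ := hwin (z i) h'
      rw [z.injective hzz] at hin
      exact h hin
  have hlt : z'.support.card < n := by
    rw [← hn]
    refine Finset.card_lt_card ⟨fun i hi => ?_, fun h => ?_⟩
    · rw [Perm.mem_support, hz'val] at hi
      rw [Perm.mem_support]
      split_ifs at hi with h
      · exact absurd rfl hi
      · exact hi
    · have := h (Perm.mem_support.2 ha)
      rw [Perm.mem_support, hz'val, if_pos (Or.inl rfl)] at this
      exact this rfl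
  have hz'mem := ih _ hlt z' rfl (by
    rw [hz', map_mul, hz, hw, map_mul, Perm.sign_swap hab, Perm.sign_swap hcd]; rfl) fun i => by
      rw [hz'val]; split_ifs
      · exact Or.inl rfl
      · exact hzy i
  have : z = w⁻¹ * z' := by rw [hz', inv_mul_cancel_left]
  rw [this]
  exact mul_mem (inv_mem hwmem) hz'mem

/-- Facts about `A₄` and `A₅` used in the centraliser analysis. -/
structure Small (A : Type*) [Group A] : Prop where
  sq_of_two : ∀ a : A, a ^ 8 = 1 → a * a = 1
  odd_comm : ∀ a : A, a * a ≠ 1 → ∃ v : A, a * (v * (a * a) * v⁻¹) ≠ 1 ∧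
    a * (v * (a * a) * v⁻¹) * (a * (v * (a * a) * v⁻¹)) = 1
  cent_four : ∀ a b : A, a * a = 1 → b * b = 1 → a ≠ 1 → b ≠ 1 → a ≠ b → a * b = b * a →
    ∀ v : A, v * a = a * v → v * b = b * v → v = 1 ∨ v = a ∨ v = b ∨ v = a * b
  four_move : ∀ a b : A, a * a = 1 → b * b = 1 → a ≠ 1 → b ≠ 1 → a ≠ b → a * b = b * a →
    ∃ v : A, v * a * v⁻¹ = b ∧ v * b * v⁻¹ = a * b

set_option maxRecDepth 8000 in
theorem small_four : Small (alternatingGroup (Fin 4)) :=
  ⟨by decide +kernel, by decide +kernel, by decide +kernel, by decide +kernel⟩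

set_option maxRecDepth 8000 in
theorem small_five : Small (alternatingGroup (Fin 5)) :=
  ⟨by decide +kernel, by decide +kernel, by decide +kernel, by decide +kernel⟩

theorem Small.congr {A B : Type*} [Group A] [Group B] (h : Small A) (e : A ≃* B) : Small B where
  sq_of_two b hb := by
    have := congrArg e (h.sq_of_two (e.symm b) (by rw [← map_pow, hb, map_one]))
    simpa using this
  odd_comm b hb := by
    obtain ⟨v, h1, h2⟩ := h.odd_comm (e.symm b) fun h' => hb (by simpa using congrArg e h')
    refine ⟨e v, ?_, ?_⟩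
    · intro h'
      exact h1 (e.injective (by simpa using h'))
    · simpa using congrArg e h2
  cent_four a b ha hb ha1 hb1 hab hc v hva hvb := by
    have hi := e.symm.injective
    rcases h.cent_four (e.symm a) (e.symm b) (by simp [← map_mul, ha]) (by simp [← map_mul, hb])
      (fun h' => ha1 (hi (by simpa using h'))) (fun h' => hb1 (hi (by simpa using h')))
      (fun h' => hab (hi h')) (by rw [← map_mul, hc, map_mul]) (e.symm v) (by rw [← map_mul, hva, map_mul])
      (by rw [← map_mul, hvb, map_mul]) with h | h | h | h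
    · exact Or.inl (hi (by simpa using h))
    · exact Or.inr (Or.inl (hi h))
    · exact Or.inr (Or.inr (Or.inl (hi h)))
    · exact Or.inr (Or.inr (Or.inr (hi (by rw [h, map_mul]))))
  four_move a b ha hb ha1 hb1 hab hc := by
    have hi := e.symm.injective
    obtain ⟨v, h1, h2⟩ := h.four_move (e.symm a) (e.symm b) (by simp [← map_mul, ha]) (by simp [← map_mul, hb])
      (fun h' => ha1 (hi (by simpa using h'))) (fun h' => hb1 (hi (by simpa using h')))
      (fun h' => hab (hi h')) (by rw [← map_mul, hc, map_mul])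
    exact ⟨e v, hi (by simpa using h1), hi (by simpa using h2)⟩

end Cfsg.Agent.TwoTimesAlt
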