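import Cfsg.Prelude.Def_TwoFusion
import Cfsg.Prelude.Def_SporadicB
import Cfsg.Agent.Lib.Transfer.Thompson
import Cfsg.Agent.Lib.PCore.Basic
import Cfsg.Agent.Lib.EightSylow.Fusion
import Cfsg.Agent.Lib.TwoTimesAlt.Perm

/-!
# An involution with centraliser `⟨J⟩ × A_m` in a group without subgroups of index two
-/

set_option autoImplicit false
set_option linter.style.haveILetI false
set_option linter.unusedSectionVars false

namespace Cfsg.Agent.TwoTimesAlt

open Subgroup
open scoped commutatorElement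

universe u
variable {G : Type u} [Group G] [Finite G]

/-- The hypotheses of the recognition. -/
structure Hyp (J : G) (T : Subgroup G) : Prop where
  h2 : ∀ N : Subgroup G, N.Normal → N.index ≠ 2
  two : Cfsg.IsTwoCentralInvolution J
  dp : Cfsg.IsInternalDirectProduct (zpowers J) T (centralizer ({J} : Set G))

namespace Hyp

variable {J : G} {T : Subgroup G} (h : Hyp J T)
include h

theorem ne_one : J ≠ 1 := fun e => by
  have h1 := h.two.1
  rw [e, orderOf_one] at h1
  omega

theorem sq : J * J = 1 := by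
  rw [← pow_two, ← h.two.1, pow_orderOf_eq_one]

theorem J_mem_C : J ∈ (centralizer ({J} : Set G)) := mem_centralizer_singleton_iff.2 rfl

theorem T_le : T ≤ (centralizer ({J} : Set G)) := h.dp.2.1

theorem comm {a : G} (ha : a ∈ T) : J * a = a * J := h.dp.2.2.1 J (mem_zpowers J) a ha

theorem J_not_mem : J ∉ T := fun hJ => by
  have : J ∈ zpowers J ⊓ T := ⟨mem_zpowers J, hJ⟩
  rw [h.dp.2.2.2.1, mem_bot] at this
  exact h.ne_one this

theorem decomp {c : G} (hc : c ∈ (centralizer ({J} : Set G))) : c ∈ T ∨ J * c ∈ T := by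
  let K : Subgroup G :=
    { carrier := {x | (x ∈ T ∧ x * J = J * x) ∨ (J * x ∈ T ∧ x * J = J * x)}
      one_mem' := Or.inl ⟨one_mem T, by simp⟩
      mul_mem' := by
        intro a b ha hb
        have hcm : ∀ a b : G, a * J = J * a → b * J = J * b → a * b * J = J * (a * b) := fun a b x y => by
          rw [mul_assoc, y, ← mul_assoc, x, mul_assoc]
        rcases ha with ⟨ha, ea⟩ | ⟨ha, ea⟩ <;> rcases hb with ⟨hb, eb⟩ | ⟨hb, eb⟩
        · exact Or.inl ⟨mul_mem ha hb, hcm a b ea eb⟩
        · refine Or.inr ⟨?_, hcm a b ea eb⟩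
          rw [← mul_assoc, ← ea, mul_assoc]
          exact mul_mem ha hb
        · exact Or.inr ⟨by rw [← mul_assoc]; exact mul_mem ha hb, hcm a b ea eb⟩
        · refine Or.inl ⟨?_, hcm a b ea eb⟩
          have e : a * b = J * a * (J * b) := by
            rw [← ea, mul_assoc a J, ← mul_assoc J J, h.sq, one_mul]
          rw [e]
          exact mul_mem ha hb
      inv_mem' := by
        intro a ha
        have hi : ∀ a : G, a * J = J * a → a⁻¹ * J = J * a⁻¹ := fun a e =>
          (Commute.inv_left (show Commute a J from e)).eq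
        rcases ha with ⟨ha, ea⟩ | ⟨ha, ea⟩
        · exact Or.inl ⟨inv_mem ha, hi a ea⟩
        · refine Or.inr ⟨?_, hi a ea⟩
          have e : J * a⁻¹ = (J * a)⁻¹ := by
            rw [mul_inv_rev, inv_eq_of_mul_eq_one_right h.sq, hi a ea]
          rw [e]
          exact inv_mem ha }
  have hle : (centralizer ({J} : Set G)) ≤ K := by
    rw [← h.dp.2.2.2.2, sup_le_iff, zpowers_le]
    exact ⟨Or.inr ⟨by rw [h.sq]; exact one_mem T, rfl⟩, fun a ha => Or.inl ⟨ha, (h.comm ha).symm⟩⟩
  rcases hle hc with ⟨x, -⟩ | ⟨x, -⟩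
  · exact Or.inl x
  · exact Or.inr x

theorem relIndex_two {P : Subgroup G} (hP : P ≤ (centralizer ({J} : Set G))) (hJ : J ∈ P) : (P ⊓ T).relIndex P = 2 := by
  refine index_eq_two_iff.2 ⟨⟨J, hJ⟩, fun b => ?_⟩
  simp only [mem_subgroupOf, mem_inf, coe_mul, SetLike.coe_mem, true_and]
  have hbJ : (b : G) * J = J * b := mem_centralizer_singleton_iff.1 (hP b.2)
  have hnot : ¬ ((b : G) * J ∈ T ∧ (b : G) ∈ T) := fun ⟨x, y⟩ => h.J_not_mem (by
    simpa using mul_mem (inv_mem y) x)
  have hor : (b : G) * J ∈ T ∨ (b : G) ∈ T := by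
    rcases h.decomp (hP b.2) with x | x
    · exact Or.inr x
    · exact Or.inl (by rw [hbJ]; exact x)
  have hJb : J * (b : G) ∈ P := mul_mem hJ b.2
  simp only [mul_mem b.2 hJ, true_and]
  rcases hor with x | x
  · exact Or.inl ⟨x, fun y => hnot ⟨x, y⟩⟩
  · exact Or.inr ⟨x, fun y => hnot ⟨y, x⟩⟩

theorem card_C : Nat.card (centralizer ({J} : Set G)) = 2 * Nat.card T := by
  have h1 := h.relIndex_two (le_refl (centralizer ({J} : Set G))) h.J_mem_C
  rw [inf_eq_right.2 h.T_le] at h1
  rw [← card_mul_index (T.subgroupOf (centralizer ({J} : Set G))), Nat.card_congr (subgroupOfEquivOfLe h.T_le).toEquiv]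
  rw [show (T.subgroupOf (centralizer ({J} : Set G))).index = 2 from h1, mul_comm]

theorem comm_mem_T {a b : G} (ha : a ∈ (centralizer ({J} : Set G))) (hb : b ∈ (centralizer ({J} : Set G))) : ⁅a, b⁆ ∈ T := by
  haveI : (T.subgroupOf (centralizer ({J} : Set G))).Normal := normal_of_index_eq_two (by
    have := h.relIndex_two (le_refl (centralizer ({J} : Set G))) h.J_mem_C
    rwa [inf_eq_right.2 h.T_le] at this)
  have hq : (QuotientGroup.mk (⁅(⟨a, ha⟩ : (centralizer ({J} : Set G))), ⟨b, hb⟩⁆) : (centralizer ({J} : Set G)) ⧸ T.subgroupOf (centralizer ({J} : Set G))) = 1 := by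
    have hc : Nat.card ((centralizer ({J} : Set G)) ⧸ T.subgroupOf (centralizer ({J} : Set G))) = 2 := by
      have := h.relIndex_two (le_refl (centralizer ({J} : Set G))) h.J_mem_C
      rwa [inf_eq_right.2 h.T_le] at this
    haveI : Fact (Nat.Prime 2) := ⟨Nat.prime_two⟩
    haveI := isCyclic_of_prime_card hc
    show (QuotientGroup.mk' (T.subgroupOf (centralizer ({J} : Set G)))) ⁅(⟨a, ha⟩ : (centralizer ({J} : Set G))), ⟨b, hb⟩⁆ = 1
    rw [map_commutatorElement, commutatorElement_eq_one_iff_mul_comm]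
    obtain ⟨g, hg⟩ := IsCyclic.exists_generator (α := (centralizer ({J} : Set G)) ⧸ T.subgroupOf (centralizer ({J} : Set G)))
    obtain ⟨i, hi⟩ := mem_zpowers_iff.1 (hg (QuotientGroup.mk' (T.subgroupOf (centralizer ({J} : Set G))) ⟨a, ha⟩))
    obtain ⟨j, hj⟩ := mem_zpowers_iff.1 (hg (QuotientGroup.mk' (T.subgroupOf (centralizer ({J} : Set G))) ⟨b, hb⟩))
    rw [← hi, ← hj]
    exact (Commute.refl g).zpow_zpow i j
  rw [QuotientGroup.eq_one_iff, mem_subgroupOf] at hq
  exact hq

/-- A Sylow 2-subgroup centralised by `J` and containing it. -/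
theorem exists_sylow : ∃ P : Sylow 2 G, J ∈ P ∧ (P : Subgroup G) ≤ (centralizer ({J} : Set G)) := by
  obtain ⟨-, P, hJP, hP⟩ := h.two
  exact ⟨P, hJP, fun x hx => mem_centralizer_singleton_iff.2 (hP x hx)⟩

theorem exists_fused (P : Sylow 2 G) (hJP : J ∈ P) (hPC : (P : Subgroup G) ≤ (centralizer ({J} : Set G))) :
    ∃ g : G, g * J * g⁻¹ ∈ (P : Subgroup G) ⊓ T := by
  by_contra hh
  simp only [not_exists] at hh
  obtain ⟨M, hM, hidx, -⟩ := Transfer.exists_index_two_of_involution P _ inf_le_left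
    (h.relIndex_two hPC hJP) J (by rw [pow_two]; exact h.sq) hJP (fun x => h.J_not_mem x.2) hh
  exact h.h2 M hM hidx

theorem six_le {m : ℕ} (e : T ≃* alternatingGroup (Fin m)) : 4 ≤ m ∧ m ≤ 5 := by
  obtain ⟨P, hJP, hPC⟩ := h.exists_sylow
  obtain ⟨g, -, hgT⟩ := h.exists_fused P hJP hPC
  set y : T := ⟨g * J * g⁻¹, hgT⟩ with hy
  have hy2 : (e y) * (e y) = 1 := by
    rw [← map_mul, ← map_one e]
    congr 1
    refine Subtype.ext ?_
    show g * J * g⁻¹ * (g * J * g⁻¹) = 1
    rw [conj_mul, h.sq, mul_one, mul_inv_cancel]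
  have hy1 : e y ≠ 1 := fun x => by
    have : y = 1 := e.injective (x.trans (map_one e).symm)
    exact h.ne_one (conj_eq_one_iff.1 (congrArg Subtype.val this))
  constructor
  · by_contra hm
    have hdvd : orderOf (e y) ∣ Nat.card (alternatingGroup (Fin m)) := orderOf_dvd_natCard _
    rw [orderOf_eq_prime (by rw [pow_two]; exact hy2) hy1] at hdvd
    interval_cases m <;> revert hdvd <;> rw [Nat.card_eq_fintype_card] <;> decide +kernel
  · by_contra hm
    have hmem := mem_commClosure (α := Fin m) (by rw [Fintype.card_fin]; omega)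
      (y := (e y : Equiv.Perm (Fin m))) (congrArg Subtype.val hy2) (Equiv.Perm.mem_alternatingGroup.1 (e y).2)
    have key : ∀ p : Equiv.Perm (Fin m), IsEvenCent (e y : Equiv.Perm (Fin m)) p →
        ∃ a : T, (e a : Equiv.Perm (Fin m)) = p ∧ g⁻¹ * (a : G) * g ∈ (centralizer ({J} : Set G)) := by
      intro p hp
      refine ⟨e.symm ⟨p, Equiv.Perm.mem_alternatingGroup.2 hp.1⟩, by rw [e.apply_symm_apply], ?_⟩
      set a := e.symm ⟨p, Equiv.Perm.mem_alternatingGroup.2 hp.1⟩
      have hc : a * y = y * a := e.injective (Subtype.ext (by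
        rw [map_mul, map_mul, e.apply_symm_apply]; exact hp.2.eq))
      have hc' : (a : G) * (g * J * g⁻¹) = g * J * g⁻¹ * a := congrArg Subtype.val hc
      rw [mem_centralizer_singleton_iff]
      calc g⁻¹ * (a : G) * g * J = g⁻¹ * ((a : G) * (g * J * g⁻¹)) * g := by group
        _ = J * (g⁻¹ * (a : G) * g) := by rw [hc']; group
    let ι : T →* G := (MulAut.conj g⁻¹).toMonoidHom.comp T.subtype
    let K : Subgroup (Equiv.Perm (Fin m)) :=
      ((T.comap ι).map e.toMonoidHom).map (alternatingGroup (Fin m)).subtype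
    have hle : commClosure (e y : Equiv.Perm (Fin m)) ≤ K := by
      rw [commClosure, closure_le]
      rintro _ ⟨p, q, hp, hq, rfl⟩
      obtain ⟨a, rfl, ha⟩ := key p hp
      obtain ⟨b, rfl, hb⟩ := key q hq
      refine ⟨e ⁅a, b⁆, ⟨⁅a, b⁆, ?_, rfl⟩, by rw [map_commutatorElement]; rfl⟩
      show ι ⁅a, b⁆ ∈ T
      rw [map_commutatorElement]
      simpa [ι] using h.comm_mem_T ha hb
    obtain ⟨_, ⟨z, hz, rfl⟩, hz'⟩ := hle hmem
    have : z = y := e.injective (Subtype.ext hz')
    subst this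
    refine h.J_not_mem ?_
    have : ι y ∈ T := hz
    simpa [ι, hy, mul_assoc] using this

/-- Two elements of `T` and the facts on `A₄`, `A₅`. -/
theorem card_sylow (hT : Nat.card T = 12 ∨ Nat.card T = 60) (P : Sylow 2 G) (hPC : (P : Subgroup G) ≤ (centralizer ({J} : Set G))) :
    Nat.card (P : Subgroup G) = 8 := by
  haveI : Fact (Nat.Prime 2) := ⟨Nat.prime_two⟩
  have e := (P.subtype hPC).card_eq_multiplicity
  rw [Sylow.coe_subtype, Nat.card_congr (subgroupOfEquivOfLe hPC).toEquiv, h.card_C] at e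
  rw [e]
  have h8 : ∀ n, Nat.factorization (8 * n) 2 = 3 + Nat.factorization n 2 ∨ n = 0 := by
    intro n
    rcases Nat.eq_zero_or_pos n with rfl | hn
    · exact Or.inr rfl
    · left
      rw [Nat.factorization_mul (by norm_num) hn.ne', show (8 : ℕ) = 2 ^ 3 by norm_num,
        Nat.prime_two.factorization_pow]
      simp
  rcases hT with hT | hT <;> rw [hT]
  · rw [show 2 * 12 = 8 * 3 by norm_num, (h8 3).resolve_right (by norm_num),
      Nat.factorization_eq_zero_of_not_dvd (by norm_num)]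
    norm_num
  · rw [show 2 * 60 = 8 * 15 by norm_num, (h8 15).resolve_right (by norm_num),
      Nat.factorization_eq_zero_of_not_dvd (by norm_num)]
    norm_num

end Hyp

end Cfsg.Agent.TwoTimesAlt
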