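import Cfsg.Agent.Lib.TwoTimesAlt.Setup

/-!
# The minimal normal subgroup when `C(J) ≅ 2 × A₄` or `2 × A₅`
-/

set_option autoImplicit false
set_option linter.style.haveILetI false
set_option linter.unusedSectionVars false

namespace Cfsg.Agent.TwoTimesAlt

open Subgroup
open scoped commutatorElement

universe u
variable {G : Type u} [Group G] [Finite G]

/-- The data of the analysis: a Sylow 2-subgroup and two involutions of it in `T`. -/
structure Data (J : G) (T : Subgroup G) (P : Sylow 2 G) (a b : G) : Prop extends Hyp J T where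
  small : Small T
  hT : Nat.card T = 12 ∨ Nat.card T = 60
  J_mem : J ∈ P
  P_le : (P : Subgroup G) ≤ centralizer ({J} : Set G)
  a_mem : a ∈ (P : Subgroup G) ⊓ T
  b_mem : b ∈ (P : Subgroup G) ⊓ T
  a_ne : a ≠ 1
  b_ne : b ≠ 1
  ab_ne : a ≠ b
  a_fused : IsConj J a

namespace Hyp

variable {J : G} {T : Subgroup G} (h : Hyp J T)
include h

theorem exists_data (hs : Small T) (hT : Nat.card T = 12 ∨ Nat.card T = 60) :
    ∃ (P : Sylow 2 G) (a b : G), Data J T P a b := by
  classical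
  obtain ⟨P, hJP, hPC⟩ := h.exists_sylow
  obtain ⟨g, hg⟩ := h.exists_fused P hJP hPC
  have h4 : Nat.card ↥((P : Subgroup G) ⊓ T) = 4 := by
    have h1 := h.relIndex_two hPC hJP
    have h2 := card_mul_index (((P : Subgroup G) ⊓ T).subgroupOf (P : Subgroup G))
    rw [Nat.card_congr (subgroupOfEquivOfLe inf_le_left).toEquiv, h.card_sylow hT P hPC] at h2
    rw [show (((P : Subgroup G) ⊓ T).subgroupOf (P : Subgroup G)).index = 2 from h1] at h2
    omega
  set a := g * J * g⁻¹
  have ha : a ≠ 1 := fun e => h.ne_one (conj_eq_one_iff.1 e)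
  haveI := Fintype.ofFinite ↥((P : Subgroup G) ⊓ T)
  have hcard : ({1, ⟨a, hg⟩} : Finset ↥((P : Subgroup G) ⊓ T)).card <
      (Finset.univ : Finset ↥((P : Subgroup G) ⊓ T)).card := by
    rw [Finset.card_univ, ← Nat.card_eq_fintype_card, h4]
    exact lt_of_le_of_lt Finset.card_le_two (by norm_num)
  obtain ⟨b, -, hb⟩ := Finset.exists_mem_notMem_of_card_lt_card hcard
  simp only [Finset.mem_insert, Finset.mem_singleton, not_or] at hb
  exact ⟨P, a, b, { h with
    small := hs, hT := hT, J_mem := hJP, P_le := hPC, a_mem := hg, b_mem := b.2, a_ne := ha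
    b_ne := fun e => hb.1 (Subtype.ext e)
    ab_ne := fun e => hb.2 (Subtype.ext e.symm)
    a_fused := isConj_iff.2 ⟨g, rfl⟩ }⟩

end Hyp

namespace Data

variable {J : G} {T : Subgroup G} {P : Sylow 2 G} {a b : G} (D : Data J T P a b)
include D

theorem card_P : Nat.card (P : Subgroup G) = 8 := D.card_sylow D.hT P D.P_le

theorem sq_P {x : G} (hx : x ∈ (P : Subgroup G)) : x * x = 1 := by
  have h8 : ∀ y ∈ (P : Subgroup G) ⊓ T, y * y = 1 := by
    intro y hy
    have e : (⟨y, hy.2⟩ : T) ^ 8 = 1 := by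
      refine Subtype.ext ?_
      have : (⟨y, hy.1⟩ : (P : Subgroup G)) ^ 8 = 1 := by rw [← D.card_P]; exact pow_card_eq_one'
      simpa using congrArg Subtype.val this
    simpa using congrArg Subtype.val (D.small.sq_of_two _ e)
  rcases D.decomp (D.P_le hx) with hxT | hxT
  · exact h8 x ⟨hx, hxT⟩
  · have e := h8 (J * x) ⟨mul_mem D.J_mem hx, hxT⟩
    have hc : x * J = J * x := mem_centralizer_singleton_iff.1 (D.P_le hx)
    calc x * x = J * J * (x * x) := by rw [D.sq, one_mul]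
      _ = J * x * (J * x) := by rw [mul_assoc J x, ← mul_assoc x J, hc]; group
      _ = 1 := e

theorem comm_P {x y : G} (hx : x ∈ (P : Subgroup G)) (hy : y ∈ (P : Subgroup G)) : x * y = y * x := by
  have h1 := D.sq_P hx
  have h2 := D.sq_P hy
  have h3 := D.sq_P (mul_mem hx hy)
  calc x * y = (x * y)⁻¹ := (inv_eq_of_mul_eq_one_right h3).symm
    _ = y⁻¹ * x⁻¹ := mul_inv_rev x y
    _ = y * x := by rw [inv_eq_of_mul_eq_one_right h1, inv_eq_of_mul_eq_one_right h2]

theorem elem : Cfsg.IsElementaryAbelian 2 (P : Subgroup G) :=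
  ⟨⟨⟨fun x y => Subtype.ext (D.comm_P x.2 y.2)⟩⟩, fun x hx => by rw [pow_two]; exact D.sq_P hx⟩

theorem four {v : G} (hv : v ∈ T) (ha : v * a = a * v) (hb : v * b = b * v) :
    v = 1 ∨ v = a ∨ v = b ∨ v = a * b := by
  have := D.small.cent_four ⟨a, D.a_mem.2⟩ ⟨b, D.b_mem.2⟩ (Subtype.ext (D.sq_P D.a_mem.1))
    (Subtype.ext (D.sq_P D.b_mem.1)) (fun e => D.a_ne (congrArg Subtype.val e))
    (fun e => D.b_ne (congrArg Subtype.val e)) (fun e => D.ab_ne (congrArg Subtype.val e))
    (Subtype.ext (D.comm_P D.a_mem.1 D.b_mem.1)) ⟨v, hv⟩ (Subtype.ext ha) (Subtype.ext hb)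
  rcases this with e | e | e | e
  · exact Or.inl (congrArg Subtype.val e)
  · exact Or.inr (Or.inl (congrArg Subtype.val e))
  · exact Or.inr (Or.inr (Or.inl (congrArg Subtype.val e)))
  · exact Or.inr (Or.inr (Or.inr (congrArg Subtype.val e)))

theorem mem_P_cases {x : G} (hx : x ∈ (P : Subgroup G)) :
    (x = 1 ∨ x = a ∨ x = b ∨ x = a * b) ∨ (x = J ∨ x = J * a ∨ x = J * b ∨ x = J * (a * b)) := by
  rcases D.decomp (D.P_le hx) with hxT | hxT
  · exact Or.inl (D.four hxT (D.comm_P hx D.a_mem.1) (D.comm_P hx D.b_mem.1))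
  · have hm := mul_mem D.J_mem hx
    refine Or.inr ?_
    have e : x = J * (J * x) := by rw [← mul_assoc, D.sq, one_mul]
    rcases D.four hxT (D.comm_P hm D.a_mem.1) (D.comm_P hm D.b_mem.1) with h | h | h | h <;> rw [e, h]
    · exact Or.inl (mul_one J)
    · exact Or.inr (Or.inl rfl)
    · exact Or.inr (Or.inr (Or.inl rfl))
    · exact Or.inr (Or.inr (Or.inr rfl))

theorem centralizer_P {v : G} (hv : v ∈ centralizer ((P : Subgroup G) : Set G)) : v ∈ (P : Subgroup G) := by
  rw [mem_centralizer_iff] at hv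
  have hvC : v ∈ centralizer ({J} : Set G) := mem_centralizer_singleton_iff.2 (hv J D.J_mem).symm
  have key : ∀ w ∈ T, (∀ x ∈ (P : Subgroup G), w * x = x * w) → w ∈ (P : Subgroup G) := by
    intro w hw hc
    rcases D.four hw (hc a D.a_mem.1) (hc b D.b_mem.1) with h | h | h | h <;> rw [h]
    exacts [one_mem _, D.a_mem.1, D.b_mem.1, mul_mem D.a_mem.1 D.b_mem.1]
  rcases D.decomp hvC with h | h
  · exact key v h fun x hx => (hv x hx).symm
  · have := key (J * v) h fun x hx => by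
      rw [mul_assoc, ← hv x hx, ← mul_assoc, D.comm_P D.J_mem hx, mul_assoc]
    have e : J * (J * v) ∈ (P : Subgroup G) := mul_mem D.J_mem this
    rwa [← mul_assoc, D.sq, one_mul] at e

theorem J_conj_eq {v : G} (hv : v ∈ T) : v * J * v⁻¹ = J := by
  rw [← D.comm hv, mul_inv_cancel_right]

theorem fused {x : G} (hx : x ∈ (P : Subgroup G)) (hx1 : x ≠ 1) : IsConj J x := by
  haveI := D.elem.1
  haveI : Fact (Nat.Prime 2) := ⟨Nat.prime_two⟩
  obtain ⟨⟨v, hv⟩, hva, hvb⟩ := D.small.four_move ⟨a, D.a_mem.2⟩ ⟨b, D.b_mem.2⟩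
    (Subtype.ext (D.sq_P D.a_mem.1))
    (Subtype.ext (D.sq_P D.b_mem.1)) (fun e => D.a_ne (congrArg Subtype.val e))
    (fun e => D.b_ne (congrArg Subtype.val e)) (fun e => D.ab_ne (congrArg Subtype.val e))
    (Subtype.ext (D.comm_P D.a_mem.1 D.b_mem.1))
  have hva' : v * a * v⁻¹ = b := congrArg Subtype.val hva
  have hvb' : v * b * v⁻¹ = a * b := congrArg Subtype.val hvb
  have hJa : IsConj J a := D.a_fused
  have hJb : IsConj J b := hJa.trans (isConj_iff.2 ⟨v, hva'⟩)
  have hJab : IsConj J (a * b) := hJb.trans (isConj_iff.2 ⟨v, hvb'⟩)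
  have hs1 : IsConj (J * a) (J * b) := isConj_iff.2 ⟨v, by
    rw [← conj_mul, D.J_conj_eq hv, hva']⟩
  have hs2 : IsConj (J * b) (J * (a * b)) := isConj_iff.2 ⟨v, by
    rw [← conj_mul, D.J_conj_eq hv, hvb']⟩
  suffices hmain : IsConj J (J * a) by
    rcases D.mem_P_cases hx with (h | h | h | h) | (h | h | h | h) <;> rw [h]
    exacts [absurd h hx1, hJa, hJb, hJab, hmain, hmain.trans hs1,
      (hmain.trans hs1).trans hs2]
  by_contra hno
  -- otherwise the class of `J` meets `P` in `{J, a, b, ab}`, which is not invariant under `N(P)`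
  have hset : ∀ y ∈ (P : Subgroup G), IsConj J y → y = J ∨ y = a ∨ y = b ∨ y = a * b := by
    intro y hy hJy
    have hy1 : y ≠ 1 := fun e => D.ne_one (isConj_one_right.1 (e ▸ hJy.symm))
    rcases D.mem_P_cases hy with (h | h | h | h) | (h | h | h | h)
    · exact absurd h hy1
    · exact Or.inr (Or.inl h)
    · exact Or.inr (Or.inr (Or.inl h))
    · exact Or.inr (Or.inr (Or.inr h))
    · exact Or.inl h
    · exact absurd (h ▸ hJy) hno
    · exact absurd ((h ▸ hJy).trans hs1.symm) hno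
    · exact absurd (((h ▸ hJy).trans hs2.symm).trans hs1.symm) hno
  obtain ⟨c, hc⟩ := isConj_iff.1 hJa
  obtain ⟨n, hn, hn'⟩ := Sylow.conj_eq_normalizer_conj_of_mem P J c⁻¹ D.J_mem (by
    rw [inv_inv, hc]; exact D.a_mem.1)
  rw [inv_inv, hc] at hn'
  have hnP : ∀ y ∈ (P : Subgroup G), n⁻¹ * y * n ∈ (P : Subgroup G) := fun y hy => by
    have := (mem_normalizer_iff.1 (inv_mem hn) y).1 hy
    rwa [inv_inv] at this
  have himg : ∀ y, y ∈ (P : Subgroup G) → IsConj J y → y ≠ J →
      n⁻¹ * y * n = J ∨ n⁻¹ * y * n = b ∨ n⁻¹ * y * n = a * b := by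
    intro y hy hJy hne
    have hne' : n⁻¹ * y * n ≠ a := fun e => hne (mul_left_cancel (mul_right_cancel (e.trans hn')))
    rcases hset _ (hnP y hy) (hJy.trans (isConj_iff.2 ⟨n⁻¹, by rw [inv_inv]⟩)) with h | h | h | h
    exacts [Or.inl h, absurd h hne', Or.inr (Or.inl h), Or.inr (Or.inr h)]
  have hJT : ∀ t ∈ T, J ≠ t := fun t ht e => D.J_not_mem (e ▸ ht)
  have e1 := himg a D.a_mem.1 hJa (hJT a D.a_mem.2).symm
  have e2 := himg b D.b_mem.1 hJb (hJT b D.b_mem.2).symm
  have e3 := himg (a * b) (mul_mem D.a_mem.1 D.b_mem.1) hJab (hJT _ (mul_mem D.a_mem.2 D.b_mem.2)).symm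
  have hne : n⁻¹ * a * n ≠ n⁻¹ * b * n := fun e => D.ab_ne (mul_left_cancel (mul_right_cancel e))
  rw [show n⁻¹ * (a * b) * n = n⁻¹ * a * n * (n⁻¹ * b * n) by group] at e3
  have hTb : b ∈ T := D.b_mem.2
  have hTab : a * b ∈ T := mul_mem D.a_mem.2 hTb
  have habb : a * b * b = a := by rw [mul_assoc, D.sq_P D.b_mem.1, mul_one]
  have hbab : b * (a * b) = a := by
    rw [D.comm_P D.a_mem.1 D.b_mem.1, ← mul_assoc, D.sq_P D.b_mem.1, one_mul]
  have hout : ∀ t ∈ T, ∀ t' ∈ T, J * t ≠ t' := fun t ht t' ht' e => D.J_not_mem (by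
    simpa using mul_mem (e ▸ ht' : J * t ∈ T) (inv_mem ht))
  have hout' : ∀ t ∈ T, t ≠ 1 → J * t ≠ J := fun t _ ht e => ht (mul_eq_left.1 e)
  have hab1 : a * b ≠ 1 := fun e => D.ab_ne (by
    rw [← inv_eq_of_mul_eq_one_right e, inv_eq_of_mul_eq_one_right (D.sq_P D.a_mem.1)])
  have hJ1 : ∀ t ∈ T, t * J = J * t := fun t ht => (D.comm ht).symm
  rcases e1 with p | p | p <;> rcases e2 with q | q | q <;>
    (try exact hne (p.trans q.symm)) <;> rw [p, q] at e3 <;>
    (try rw [hJ1 b hTb] at e3) <;> (try rw [hJ1 _ hTab] at e3) <;>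
    (try rw [habb] at e3) <;> (try rw [hbab] at e3) <;> rcases e3 with r | r | r
  all_goals first
    | exact hout' b hTb D.b_ne r
    | exact hout' _ hTab hab1 r
    | exact hout b hTb b hTb r
    | exact hout b hTb _ hTab r
    | exact hout _ hTab b hTb r
    | exact hout _ hTab _ hTab r
    | exact hJT a D.a_mem.2 r.symm
    | exact D.ab_ne r
    | exact D.b_ne (mul_eq_left.1 r.symm)

theorem involution_conj {w : G} (hw : w * w = 1) (hw1 : w ≠ 1) : IsConj J w := by
  haveI : Fact (Nat.Prime 2) := ⟨Nat.prime_two⟩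
  obtain ⟨Q, hQ⟩ := (IsPGroup.of_card (p := 2) (n := 1) (G := zpowers w) (by
    rw [Nat.card_zpowers, orderOf_eq_prime (by rw [pow_two]; exact hw) hw1, pow_one])).exists_le_sylow
  obtain ⟨g, hg⟩ := MulAction.exists_smul_eq G Q P
  have hmem : g * w * g⁻¹ ∈ (P : Subgroup G) := by
    rw [← hg, Sylow.coe_subgroup_smul, mem_pointwise_smul_iff_inv_smul_mem]
    simpa [MulAut.smul_def, mul_assoc] using hQ (mem_zpowers w)
  exact (D.fused hmem fun e => hw1 (conj_eq_one_iff.1 e)).trans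
    (isConj_iff.2 ⟨g⁻¹, by group⟩)

theorem eq_bot_of_odd (K : Subgroup G) [K.Normal] (hK : Odd (Nat.card K)) : K = ⊥ := by
  have hoddord : ∀ o ∈ K, o * o = 1 → o = 1 := fun o ho h2 => by
    have h1 : orderOf o ∣ 2 := orderOf_dvd_of_pow_eq_one (by rw [pow_two, h2])
    rcases (Nat.dvd_prime Nat.prime_two).1 h1 with e | e
    · exact orderOf_eq_one_iff.1 e
    · have := (e ▸ orderOf_dvd_natCard K ho : 2 ∣ Nat.card K)
      exact absurd hK (Nat.not_odd_iff_even.2 (even_iff_two_dvd.2 this))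
  have hfixJ : ∀ o ∈ K, J * o = o * J → o = 1 := by
    intro o ho hoJ
    obtain ⟨k, hk⟩ := hK
    have hoK : o ^ (2 * k + 1) = 1 := by
      rw [← hk]
      exact congrArg Subtype.val (pow_card_eq_one' (x := (⟨o, ho⟩ : K)))
    have hoT : o ∈ T := by
      refine (D.decomp (mem_centralizer_singleton_iff.2 hoJ.symm)).resolve_right fun hm => D.J_not_mem ?_
      have e := pow_mem hm (2 * k + 1)
      rwa [(show Commute J o from hoJ).mul_pow, hoK, mul_one, pow_succ, pow_mul, pow_two, D.sq, one_pow,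
        one_mul] at e
    refine hoddord o ho (by_contra fun h2 => ?_)
    obtain ⟨⟨v, hv⟩, hv1, hv2⟩ := D.small.odd_comm ⟨o, hoT⟩ fun e => h2 (congrArg Subtype.val e)
    exact hv1 (Subtype.ext (hoddord _ (mul_mem ho ((inferInstance : K.Normal).conj_mem _ (mul_mem ho ho) v))
      (congrArg Subtype.val hv2)))
  have hfix : ∀ w, w * w = 1 → w ≠ 1 → ∀ o ∈ K, w * o * w⁻¹ = o⁻¹ := by
    intro w hw hw1 o ho
    obtain ⟨c, hc⟩ := isConj_iff.1 (D.involution_conj hw hw1)
    have hf : MonoidHom.FixedPointFree (MulAut.conjNormal w : MulAut K) := by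
      intro x hx
      have hx' : w * (x : G) * w⁻¹ = x := congrArg Subtype.val hx
      have h1 := hfixJ (c⁻¹ * (x : G) * c⁻¹⁻¹) ((inferInstance : K.Normal).conj_mem _ x.2 c⁻¹) (by
        rw [mul_inv_eq_iff_eq_mul] at hx'
        rw [show J = c⁻¹ * w * c by rw [← hc]; group]
        calc c⁻¹ * w * c * (c⁻¹ * ↑x * c⁻¹⁻¹) = c⁻¹ * (w * x) * c := by group
          _ = _ := by rw [hx']; group)
      exact Subtype.ext (conj_eq_one_iff.1 h1)
    have hinv : Function.Involutive (MulAut.conjNormal w : MulAut K) := fun x => Subtype.ext (by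
      show w * (w * (x : G) * w⁻¹) * w⁻¹ = x
      rw [inv_eq_of_mul_eq_one_right hw]
      calc w * (w * (x : G) * w) * w = w * w * x * (w * w) := by group
        _ = x := by rw [hw, one_mul, mul_one])
    exact congrArg Subtype.val (congrFun (MonoidHom.FixedPointFree.coe_eq_inv_of_involutive hf hinv) ⟨o, ho⟩)
  refine (eq_bot_iff_forall K).2 fun o ho => hoddord o ho ?_
  have hJa1 : J * a ≠ 1 := fun e => D.J_not_mem (by
    rw [show J = a⁻¹ from eq_inv_of_mul_eq_one_left e]; exact inv_mem D.a_mem.2)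
  have e1 := hfix a (D.sq_P D.a_mem.1) D.a_ne o ho
  have e2 := hfix J D.sq D.ne_one _ (inv_mem ho)
  have e3 := hfix (J * a) (D.sq_P (mul_mem D.J_mem D.a_mem.1)) hJa1 o ho
  rw [inv_inv] at e2
  rw [show J * a * o * (J * a)⁻¹ = J * (a * o * a⁻¹) * J⁻¹ by group, e1, e2] at e3
  rw [mul_eq_one_iff_eq_inv]
  exact e3

/-- The normal closure of `J`. -/
theorem J_mem_N : J ∈ normalClosure ({J} : Set G) := subset_normalClosure rfl

theorem involution_mem_N {w : G} (hw : w * w = 1) : w ∈ normalClosure ({J} : Set G) := by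
  by_cases hw1 : w = 1
  · rw [hw1]; exact one_mem _
  obtain ⟨c, rfl⟩ := isConj_iff.1 (D.involution_conj hw hw1)
  exact (inferInstance : (normalClosure ({J} : Set G)).Normal).conj_mem _ D.J_mem_N c

theorem P_le_N : (P : Subgroup G) ≤ normalClosure ({J} : Set G) := fun _ hx => D.involution_mem_N (D.sq_P hx)

theorem N_le (K : Subgroup G) [K.Normal] (hK : K ≠ ⊥) : normalClosure ({J} : Set G) ≤ K := by
  rcases Nat.even_or_odd (Nat.card K) with he | ho
  · haveI : Fact (Nat.Prime 2) := ⟨Nat.prime_two⟩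
    obtain ⟨w, hw⟩ := exists_prime_orderOf_dvd_card' (G := K) 2 (even_iff_two_dvd.1 he)
    have hw2 : (w : G) * w = 1 := by rw [← coe_mul, ← pow_two, ← hw, pow_orderOf_eq_one]; rfl
    have hw1 : (w : G) ≠ 1 := fun e => by
      rw [show w = 1 from Subtype.ext e, orderOf_one] at hw; omega
    obtain ⟨c, hc⟩ := isConj_iff.1 (D.involution_conj hw2 hw1).symm
    exact normalClosure_le_normal (Set.singleton_subset_iff.2 (hc ▸ (inferInstance : K.Normal).conj_mem _ w.2 c))
  · exact absurd (D.eq_bot_of_odd K ho) hK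

theorem P_normal_of_N_comm (hc : IsMulCommutative ↥(normalClosure ({J} : Set G))) :
    (P : Subgroup G).Normal := by
  have hsq : ∀ x ∈ normalClosure ({J} : Set G), x * x = 1 := by
    intro x hx
    have hx' := hx
    rw [normalClosure] at hx'
    refine (closure_induction (p := fun y _ => y ∈ normalClosure ({J} : Set G) ∧ y * y = 1)
      ?_ ⟨one_mem _, one_mul 1⟩ ?_ ?_ hx').2
    · intro y hy
      obtain ⟨z, hz, hzy⟩ := Group.mem_conjugatesOfSet_iff.1 hy
      rw [Set.mem_singleton_iff.1 hz] at hzy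
      refine ⟨subset_closure hy, ?_⟩
      obtain ⟨c, rfl⟩ := isConj_iff.1 hzy
      rw [conj_mul, D.sq, mul_one, mul_inv_cancel]
    · rintro y z - - ⟨hy, hy'⟩ ⟨hz, hz'⟩
      refine ⟨mul_mem hy hz, ?_⟩
      have hcm : z * y = y * z := congrArg Subtype.val (hc.is_comm.comm ⟨z, hz⟩ ⟨y, hy⟩)
      rw [mul_assoc, ← mul_assoc z, hcm, mul_assoc y z, ← mul_assoc y y, hy', hz', one_mul]
    · rintro y - ⟨hy, hy'⟩
      exact ⟨inv_mem hy, by rw [inv_eq_of_mul_eq_one_right hy']; exact hy'⟩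
  have hN2 : IsPGroup 2 ↥(normalClosure ({J} : Set G)) := fun x => ⟨1, by
    rw [pow_one]; exact Subtype.ext (by simpa [pow_two] using hsq x x.2)⟩
  rw [← P.3 hN2 D.P_le_N]
  infer_instance

theorem simple_N (hc : ¬ IsMulCommutative ↥(normalClosure ({J} : Set G))) :
    IsSimpleGroup ↥(normalClosure ({J} : Set G)) ∧
      ∀ u v : ↥(normalClosure ({J} : Set G)), orderOf u = 2 → orderOf v = 2 → IsConj u v := by
  haveI : Fact (Nat.Prime 2) := ⟨Nat.prime_two⟩
  set N := normalClosure ({J} : Set G) with hN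
  haveI : N.Normal := normalClosure_normal
  have hperf : _root_.commutator ↥N = ⊤ := by
    by_contra hne
    set M := (_root_.commutator ↥N).map N.subtype with hM
    haveI : M.Normal := ConjAct.normal_of_characteristic_of_normal
    rcases eq_or_ne M ⊥ with hb | hb
    · refine hc ⟨⟨fun x y => ?_⟩⟩
      have := commutator_mem_commutator (mem_top x) (mem_top y)
      rw [← _root_.commutator_def, (map_eq_bot_iff_of_injective _ N.subtype_injective).1 hb, mem_bot,
        commutatorElement_eq_one_iff_mul_comm] at this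
      exact this
    · have hle := D.N_le M hb
      refine hne (top_le_iff.1 fun x _ => ?_)
      obtain ⟨y, hy, e⟩ := hle x.2
      rwa [← N.subtype_injective e]
  set S : Sylow 2 ↥N := P.subtype D.P_le_N
  have hS : Cfsg.IsElementaryAbelian 2 (S : Subgroup ↥N) :=
    ⟨⟨⟨fun x y => Subtype.ext (Subtype.ext (D.comm_P x.2 y.2))⟩⟩,
      fun x hx => Subtype.ext (by simpa [pow_two] using D.sq_P hx)⟩
  have hS8 : Nat.card (S : Subgroup ↥N) = 8 :=
    (Nat.card_congr (subgroupOfEquivOfLe D.P_le_N).toEquiv).trans D.card_P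
  have hconj : ∀ u v : ↥N, orderOf u = 2 → orderOf v = 2 → IsConj u v := fun _ _ hu hv =>
    EightSylow.isConj_involution S hS hS8 hperf hu hv
  refine ⟨?_, hconj⟩
  haveI : Nontrivial ↥N := ⟨⟨⟨J, D.J_mem_N⟩, 1, fun e => D.ne_one (congrArg Subtype.val e)⟩⟩
  refine ⟨fun K hK => ?_⟩
  rcases Nat.even_or_odd (Nat.card K) with he | ho
  · right
    obtain ⟨w, hw⟩ := exists_prime_orderOf_dvd_card' (G := K) 2 (even_iff_two_dvd.1 he)
    rw [← orderOf_coe] at hw
    have hJK : (⟨J, D.J_mem_N⟩ : ↥N) ∈ K := by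
      obtain ⟨c, hcw⟩ := isConj_iff.1 (hconj (w : ↥N) ⟨J, D.J_mem_N⟩ hw (by
        rw [orderOf_mk]; exact D.two.1))
      exact hcw ▸ hK.conj_mem _ w.2 c
    have hle : N ≤ K.map N.subtype := by
      show closure (Group.conjugatesOfSet ({J} : Set G)) ≤ _
      rw [closure_le]
      intro y hy
      obtain ⟨z, hz, hzy⟩ := Group.mem_conjugatesOfSet_iff.1 hy
      rw [Set.mem_singleton_iff.1 hz] at hzy
      obtain ⟨c, rfl⟩ := isConj_iff.1 hzy
      obtain ⟨n, hn⟩ := isConj_iff.1 (hconj ⟨J, D.J_mem_N⟩ ⟨c * J * c⁻¹,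
        (inferInstance : N.Normal).conj_mem _ D.J_mem_N c⟩ (by rw [orderOf_mk]; exact D.two.1) (by
        rw [orderOf_mk, ← MulAut.conj_apply, MulEquiv.orderOf_eq]; exact D.two.1))
      exact ⟨_, hK.conj_mem _ hJK n, congrArg Subtype.val hn⟩
    refine top_le_iff.1 fun x _ => ?_
    obtain ⟨y, hy, e⟩ := hle x.2
    rwa [← N.subtype_injective e]
  · left
    have hcore : Cfsg.pPrimeCore 2 ↥N = ⊥ := by
      refine PCore.pPrimeCore_eq_bot_of_normal N (PCore.pPrimeCore_eq_bot_iff.2 fun M hM hMo => ?_)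
      haveI := hM
      exact D.eq_bot_of_odd M (Nat.coprime_two_right.1 hMo)
    exact PCore.pPrimeCore_eq_bot_iff.1 hcore K hK (Nat.coprime_two_right.2 ho)

end Data

end Cfsg.Agent.TwoTimesAlt
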